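import Cfsg.Agent.H802.TE.Defs

/-!
# S5261, part E: small tools for mixed subgroups
-/

set_option autoImplicit false
set_option linter.unusedSectionVars false

namespace Cfsg.Agent.H667.TE

open Cfsg Cfsg.FusionSystem Cfsg.Agent.H756.PU Cfsg.Agent.H802.TE
open Cfsg.Agent.H765.D3 Cfsg.Agent.H765.D3.Sy
open Cfsg.Agent.Hex.Defs (sh cr nm tr)
open scoped commutatorElement

universe u

section Gen

variable {Ω : Type*} [Group Ω]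

/-- an automorphism whose image of `Z` contains `Z` leaves `Z` invariant -/
theorem inv_of_surj {E Z : Subgroup Ω} [Finite Z] (γ : MulAut E)
    (h : ∀ w ∈ Z, ∃ z : E, (z : Ω) ∈ Z ∧ ((γ z : E) : Ω) = w) :
    ∀ z : E, (z : Ω) ∈ Z → ((γ z : E) : Ω) ∈ Z := by
  choose f hf using h
  have hinj : Function.Injective (fun w : Z => (⟨(f w w.2 : Ω), (hf w w.2).1⟩ : Z)) := by
    intro a b hab
    have e : f a a.2 = f b b.2 := Subtype.ext (congrArg (fun t : Z => (t : Ω)) hab)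
    apply Subtype.ext
    rw [← (hf a a.2).2, ← (hf b b.2).2, e]
  have hsurj := Finite.surjective_of_injective hinj
  intro z hz
  obtain ⟨w, hw⟩ := hsurj ⟨z, hz⟩
  have e : f w w.2 = z := Subtype.ext (congrArg (fun t : Z => (t : Ω)) hw)
  rw [← e, (hf w w.2).2]
  exact w.2

/-- commutators with an image -/
theorem comm_image {E : Subgroup Ω} (γ : MulAut E) (g e : E) :
    ⁅((γ g : E) : Ω), (e : Ω)⁆ = ((γ ⁅g, γ⁻¹ e⁆ : E) : Ω) := by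
  rw [map_commutatorElement, MulAut.apply_inv_self]
  rfl

end Gen

section

variable {F K : Type*} [Field F] [Field K] [Algebra F K] {φ : K ≃ₐ[F] K} [Cub φ]

/-- a mixed subgroup contains a regular element -/
theorem exists_reg {E : Subgroup (Sy φ)} (h1 : ¬ E ≤ Q1 φ) (h2 : ¬ E ≤ Q2 φ) : ∃ e ∈ E, e.x1 ≠ 0 ∧ e.x6 ≠ 0 := by
  obtain ⟨a, ha, ha1⟩ := SetLike.not_le_iff_exists.1 h1
  obtain ⟨b, hb, hb6⟩ := SetLike.not_le_iff_exists.1 h2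
  rw [mem_Q1] at ha1
  rw [mem_Q2] at hb6
  by_cases h6 : a.x6 = 0
  · by_cases h1' : b.x1 = 0
    · refine ⟨a * b, mul_mem ha hb, ?_, ?_⟩
      · rw [mul_x1, h1', add_zero]; exact ha1
      · rw [mul_x6, h6, zero_add]; exact hb6
    · exact ⟨b, hb, h1', hb6⟩
  · exact ⟨a, ha, ha1, h6⟩

variable (φ) in
theorem exists_tr {a : K} (ha : a ≠ 0) (t : F) : ∃ b, tr φ (a * b) = t := by
  obtain ⟨s, hs⟩ := exists_tr_ne φ
  refine ⟨(t / tr φ s) • (a⁻¹ * s), ?_⟩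
  rw [mul_smul_comm, mul_inv_cancel_left₀ ha, tr_smul, div_mul_cancel₀ _ hs]

/-- `[y, Z3] = Z2` for regular `y` -/
theorem exists_comm_Z2 {y : Sy φ} (h1 : y.x1 ≠ 0) (h6 : y.x6 ≠ 0) {w : Sy φ} (hw : w ∈ Z2 φ) :
    ∃ b ∈ Z3 φ, ⁅y, b⁆ = w := by
  obtain ⟨β, hβ⟩ := exists_tr φ h1 w.x2
  have hb : (⟨0, 0, 0, β, (w.x4 + tr φ (β * y.x5) - y.x6 * tr φ (y.x1 * β)) / y.x6, 0⟩ : Sy φ) ∈ Z3 φ :=
    ⟨rfl, rfl, rfl⟩
  refine ⟨_, hb, ?_⟩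
  have h2 := comm_mem_Z2 (x := y) hb
  ext
  · rw [h2.1, hw.1]
  · rw [h2.2.1, hw.2.1]
  · rw [h2.2.2.1, hw.2.2.1]
  · rw [h2.2.2.2, hw.2.2.2]
  · rw [comm_x2' hb]; exact hβ
  · rw [comm_x4' hb, mul_div_cancel₀ _ h6]; ring

/-- `[w, Z3] = Z1` for `w ∈ Z4 \ Z3` -/
theorem exists_comm_Z1 {y : Sy φ} (hy : y ∈ Z4 φ) (h5 : y.x5 ≠ 0) {w : Sy φ} (hw : w ∈ Z1 φ) :
    ∃ b ∈ Z3 φ, ⁅y, b⁆ = w := by
  obtain ⟨β, hβ⟩ := exists_tr φ h5 (-w.x4)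
  refine ⟨u3 φ β, u3_mem β, ?_⟩
  rw [comm_Q1 hy.1 (u3_mem β).1, eq_u4 hw]
  have e : form y (u3 φ β) = w.x4 := by
    rw [form]
    have e1 : (u3 φ β).x2 = 0 := rfl
    have e2 : (u3 φ β).x6 = 0 := rfl
    have e3 : (u3 φ β).x3 = β := rfl
    have e4 : (u3 φ β).x5 = 0 := rfl
    rw [e1, e2, e3, e4, hβ, mul_zero, mul_zero, mul_zero, tr_zero]
    ring
  rw [e]

/-- `Z2 ≤ Φ(E)` -/
theorem Z2_le_of_com {E N : Subgroup (Sy φ)} (hc : Com E E N) {e : Sy φ} (he : e ∈ E) (h1 : e.x1 ≠ 0) (h6 : e.x6 ≠ 0)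
    (hZ : Z3 φ ≤ E) : Z2 φ ≤ N := by
  intro w hw
  obtain ⟨b, hb, rfl⟩ := exists_comm_Z2 h1 h6 hw
  exact hc e he b (hZ hb)

/-- `[E, Z3] ≤ Z2` in the other order -/
theorem comm_mem_Z2' {x y : Sy φ} (hx : x ∈ Z3 φ) : ⁅x, y⁆ ∈ Z2 φ := by
  rw [← commutatorElement_inv]
  exact inv_mem (comm_mem_Z2 hx)

theorem comm_mem_Z1' {x y : Sy φ} (hx : x ∈ Z2 φ) : ⁅x, y⁆ ∈ Z1 φ := by
  rw [← commutatorElement_inv, comm_Z2 hx]
  exact inv_mem (u4_mem _)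

end

/-- the common part: an element `y = γ g`, `g ∈ Z3`, not centralized by `Z4` modulo `Φ(E)` -/
theorem core {F K : Type u} [Field F] [Field K] [Finite F] [Finite K] [Algebra F K] {φ : K ≃ₐ[F] K} [Cub φ]
    {E : Subgroup (Sy φ)} (hc : Com E E (Phi E)) (hm : Mixed E) (hZ : Z3 φ ≤ E) (γ : MulAut E) (g : E)
    (hg : (g : Sy φ) ∈ Z3 φ) (z : Sy φ) (hz : z ∈ Z4 φ)
    (hn : z * (γ g : E) * z⁻¹ * ((γ g : E) : Sy φ)⁻¹ ∉ Phi E) :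
    ((γ g : E) : Sy φ).x1 ≠ 0 ∧
    (((γ g : E) : Sy φ).x6 ≠ 0 → ∀ e ∈ E, ⁅((γ g : E) : Sy φ), e⁆ ∈ Z2 φ) ∧
    (((γ g : E) : Sy φ).x6 = 0 → (∀ e ∈ E, cr φ e.x1 ((γ g : E) : Sy φ).x1 = 0) ∧
      ∀ e : E, (e : Sy φ) ∈ Z1 φ → ((γ e : E) : Sy φ) ∈ Z1 φ) := by
  obtain ⟨e, he, he1, he6⟩ := exists_reg hm.1 hm.2
  have hZ2 : Z2 φ ≤ Phi E := Z2_le_of_com hc he he1 he6 hZ
  set y : Sy φ := ((γ g : E) : Sy φ) with hy
  have hy1 : y.x1 ≠ 0 := by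
    intro h0
    apply hn
    rw [← commutatorElement_def, comm_Q1 (Z4_le_Q1 hz) h0]
    exact hZ2 (Z1_le_Z2 (u4_mem _))
  refine ⟨hy1, ?_, ?_⟩
  · intro h6
    have key : ∀ w : E, (w : Sy φ) ∈ Z2 φ → ((γ w : E) : Sy φ) ∈ Z2 φ := by
      apply inv_of_surj
      intro w hw
      obtain ⟨b, hb, hb2⟩ := exists_comm_Z2 hy1 h6 hw
      refine ⟨⁅g, γ⁻¹ ⟨b, hZ hb⟩⁆, ?_, ?_⟩
      · exact comm_mem_Z2' hg
      · rw [← comm_image]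
        exact hb2
    intro x hx
    have := comm_image γ g ⟨x, hx⟩
    rw [← hy] at this
    rw [show ⁅y, x⁆ = _ from this]
    exact key _ (comm_mem_Z2' hg)
  · intro h6
    set w : Sy φ := ⁅y, e⁆ with hwdef
    have hw4 : w ∈ Z4 φ := comm_mem_Z4 _ _
    have hw5 : w.x5 = e.x6 • y.x1 := by
      rw [hwdef, comm_x5, h6, zero_smul, sub_zero]
    have hw50 : w.x5 ≠ 0 := by
      rw [hw5]
      exact smul_ne_zero he6 hy1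
    set z0 : E := ⁅g, γ⁻¹ ⟨e, he⟩⁆ with hz0
    have hz02 : (z0 : Sy φ) ∈ Z2 φ := comm_mem_Z2' hg
    have hγ : ((γ z0 : E) : Sy φ) = w := (comm_image γ g ⟨e, he⟩).symm
    have key : ∀ v : E, (v : Sy φ) ∈ Z1 φ → ((γ v : E) : Sy φ) ∈ Z1 φ := by
      apply inv_of_surj
      intro v hv
      obtain ⟨b, hb, hb2⟩ := exists_comm_Z1 hw4 hw50 hv
      refine ⟨⁅z0, γ⁻¹ ⟨b, hZ hb⟩⁆, ?_, ?_⟩
      · exact comm_mem_Z1' hz02
      · rw [← comm_image, hγ]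
        exact hb2
    refine ⟨?_, key⟩
    intro x hx
    have h1 : ⁅w, x⁆ ∈ Z1 φ := by
      have := comm_image γ z0 ⟨x, hx⟩
      rw [hγ] at this
      rw [show ⁅w, x⁆ = _ from this]
      exact key _ (comm_mem_Z1' hz02)
    have h2 : ⁅x, w⁆ ∈ Z1 φ := by
      rw [← commutatorElement_inv]
      exact inv_mem h1
    have h3 := h2.2.2.2.1
    rw [comm_x3 hw4, hw5, cr_smul_right] at h3
    exact (smul_eq_zero.1 h3).resolve_left he6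

end Cfsg.Agent.H667.TE
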