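import Cfsg.Agent.H667.TE.Basic

/-!
# S5261, part E: (M3) for `p` odd, and (M3a)
-/

set_option autoImplicit false
set_option linter.unusedSectionVars false

namespace Cfsg.Agent.H667.TE

open Cfsg Cfsg.FusionSystem Cfsg.Agent.H756.PU Cfsg.Agent.H802.TE
open Cfsg.Agent.H765.D3 Cfsg.Agent.H765.D3.Sy
open Cfsg.Agent.Hex.Defs (sh cr nm tr)
open scoped commutatorElement

universe u

section

variable {F K : Type*} [Field F] [Field K] [Algebra F K] {φ : K ≃ₐ[F] K} [Cub φ]

theorem sq_eq_one_of_Z3 (h2 : (2 : K) = 0) {g : Sy φ} (hg : g ∈ Z3 φ) : g * g = 1 := by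
  have hF : (2 : F) = 0 := by
    apply (algebraMap F K).injective
    rw [map_ofNat, map_zero, h2]
  obtain ⟨h1, h6, h5⟩ := hg
  ext
  · rw [mul_x1, h1, add_zero, one_x1]
  · rw [mul_x6, h6, add_zero, one_x6]
  · rw [mul_x5, h5, h6, h1, smul_zero, add_zero, add_zero, one_x5]
  · rw [mul_x3, h1, h5, h6, cr_zero_left, zero_smul, add_zero, add_zero, one_x3]
    linear_combination g.x3 * h2
  · rw [mul_x2, h1, h5, h6, sh_zero, zero_mul, zero_mul, tr_zero, zero_mul, add_zero, add_zero, add_zero, one_x2]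
    linear_combination g.x2 * hF
  · have e : tr φ (g.x3 * (0 + 0)) = 0 := by rw [add_zero, mul_zero, tr_zero]
    rw [mul_x4, h1, h5, h6, sh_zero, zero_mul, zero_mul, tr_zero, one_x4, zero_smul, e]
    linear_combination g.x4 * hF

end

theorem two_ne {K : Type*} [Field K] {p : ℕ} [CharP K p] (hp : p.Prime) (h2 : p ≠ 2) : (2 : K) ≠ 0 := by
  intro h
  have h3 : ((2 : ℕ) : K) = 0 := by exact_mod_cast h
  rw [CharP.cast_eq_zero_iff K p 2] at h3
  exact h2 ((Nat.prime_dvd_prime_iff_eq hp Nat.prime_two).1 h3)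

theorem le_normalizerIn {Ω : Type*} [Group Ω] {S A E : Subgroup Ω} (hA : A ≤ S) (h : Com A E E) :
    A ≤ normalizerIn S E := by
  refine le_inf hA fun a ha => ?_
  have key : ∀ b ∈ A, ∀ e ∈ E, b * e * b⁻¹ ∈ E := fun b hb e he => by
    have := mul_mem (h b hb e he) he
    rwa [inv_mul_cancel_right] at this
  rw [Subgroup.mem_normalizer_iff]
  intro e
  refine ⟨fun he => key a ha e he, fun he => ?_⟩
  have := key a⁻¹ (inv_mem ha) _ he
  rwa [show a⁻¹ * (a * e * a⁻¹) * a⁻¹⁻¹ = e by group] at this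

theorem card_F_lt {F K : Type*} [Field F] [Field K] [Finite F] [Finite K] [Algebra F K] (φ : K ≃ₐ[F] K) [Cub φ] :
    Nat.card F < Nat.card K := by
  by_contra hcon
  have hb := (algebraMap F K).injective.bijective_of_nat_card_le (not_lt.1 hcon)
  obtain ⟨t, ht⟩ := Cub.ne (φ := φ)
  obtain ⟨s, rfl⟩ := hb.2 t
  exact ht (φ.commutes s)

theorem stM3a (hphi : StPhi.{u}) : StM3a.{u} := by
  intro F K _ _ _ _ _ φ _ _ E Γ hE hm hZ γ hγ g hg z hz hn
  have hfin : Finite E := inferInstance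
  have hpE : IsPGroup 2 E := hE.pgr.of_injective (Subgroup.inclusion hE.E_le) (Subgroup.inclusion_injective _)
  obtain ⟨-, hc, -⟩ := hphi E 2 hE.pp hfin hpE
  obtain ⟨h1, h2, h3⟩ := core hc hm hZ γ g hg z hz hn
  have hK2 : (2 : K) = 0 := by
    have := CharP.cast_eq_zero K 2
    exact_mod_cast this
  have h6 : ((γ g : E) : Sy φ).x6 = 0 := by
    by_contra h6
    have hgg : g * g = 1 := Subtype.ext (sq_eq_one_of_Z3 hK2 hg)
    have hyy : (γ g) * (γ g) = 1 := by rw [← map_mul, hgg, map_one]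
    have h5 : (((γ g : E) : Sy φ) * ((γ g : E) : Sy φ)).x5 = 0 := by
      have := congrArg (fun t : E => (t : Sy φ).x5) hyy
      exact this
    rw [mul_x5] at h5
    have : ((γ g : E) : Sy φ).x6 • ((γ g : E) : Sy φ).x1 = 0 := by
      linear_combination h5 - ((γ g : E) : Sy φ).x5 * hK2
    exact (smul_ne_zero h6 h1) this
  refine ⟨h6, h1, ?_, (h3 h6).2⟩
  intro x hx
  have := (h3 h6).1 x hx
  rw [cr_comm] at this
  exact cr_eq_zero_two φ hK2 h1 this

theorem stM3o (hphi : StPhi.{u}) (hbd : StBd.{u}) (hhull : StHull.{u}) : StM3o.{u} := by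
  intro F K _ _ _ _ _ φ _ p _ E Γ hE hp2 hm hZ
  have hfin : Finite E := inferInstance
  have hpE : IsPGroup p E := hE.pgr.of_injective (Subgroup.inclusion hE.E_le) (Subgroup.inclusion_injective _)
  obtain ⟨-, hc, -⟩ := hphi E p hE.pp hfin hpE
  by_contra hcon
  have hcom : Com (Z4 φ) E (Z3 φ) := by
    intro a ha e _
    rw [← commutatorElement_def, ← commutatorElement_inv]
    exact inv_mem (comm_mem_Z3 ha)
  obtain ⟨γ, hγ, g, hg, z, hz, hn⟩ := hhull hE (Z4 φ) (Z3 φ) le_top hZ hcom hcon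
  obtain ⟨h1, h2, h3⟩ := core hc hm hZ γ g hg z hz hn
  set y : Sy φ := ((γ g : E) : Sy φ) with hy
  have hK2 : (2 : K) ≠ 0 := two_ne hE.pp hp2
  obtain ⟨e, he, he1, he6⟩ := exists_reg hm.1 hm.2
  by_cases h6 : y.x6 = 0
  · rcases cr_eq_zero φ hK2 ((h3 h6).1 e he) with h | h
    · exact he1 h
    · exact h1 h
  · -- `[y, E] ≤ Z2`
    have hcy := h2 h6
    have hx1 : ∀ x ∈ E, x.x6 = 0 → x.x1 = 0 := by
      intro x hx hx6
      have := (hcy x hx).2.2.1
      rw [comm_x5, hx6, zero_smul, zero_sub, neg_eq_zero] at this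
      exact (smul_eq_zero.1 this).resolve_left h6
    have hEQ2 : E ⊓ Q2 φ = Z3 φ := by
      apply le_antisymm
      · rintro x ⟨hx, hx6⟩
        have hx4 : x ∈ Z4 φ := ⟨hx1 x hx hx6, hx6⟩
        refine ⟨hx4.1, hx4.2, ?_⟩
        have := (hcy x hx).2.2.2
        rw [comm_x3 hx4] at this
        exact (cr_eq_zero φ hK2 this).resolve_left h1
      · intro x hx
        exact ⟨hZ hx, hx.2.1⟩
    have hEZ4 : E ⊓ Z4 φ = Z3 φ := by
      apply le_antisymm
      · rintro x ⟨hx, hx4⟩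
        rw [← hEQ2]
        exact ⟨hx, hx4.2⟩
      · intro x hx
        exact ⟨hZ hx, hx.1, hx.2.1⟩
    have hnorm : Z4 φ ≤ normalizerIn ⊤ E := le_normalizerIn le_top fun a ha e h => hZ (hcom a ha e h)
    have hb := hbd hE (Z4 φ) (Z2 φ) hnorm (Z2_le_of_com hc he he1 he6 hZ)
    have e1 : E.relIndex (Z4 φ) = Nat.card K := by
      rw [← Subgroup.inf_relIndex_right, hEZ4]
      have h := Subgroup.relIndex_mul_relIndex ⊥ (Z3 φ) (Z4 φ) bot_le Z3_le_Z4
      rw [Subgroup.relIndex_bot_left, Subgroup.relIndex_bot_left, card_Z3, card_Z4] at h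
      have hpos : 0 < Nat.card K * Nat.card F ^ 2 := Nat.mul_pos Nat.card_pos (pow_pos Nat.card_pos 2)
      apply Nat.eq_of_mul_eq_mul_left hpos
      rw [h]
      ring
    have e2 : (Z2 φ).relIndex (Z3 φ) = Nat.card K := by
      have h := Subgroup.relIndex_mul_relIndex ⊥ (Z2 φ) (Z3 φ) bot_le Z2_le_Z3
      rw [Subgroup.relIndex_bot_left, Subgroup.relIndex_bot_left, card_Z3, card_Z2] at h
      have hpos : 0 < Nat.card F ^ 2 := pow_pos Nat.card_pos 2
      apply Nat.eq_of_mul_eq_mul_left hpos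
      rw [h]
      ring
    have e3 : (Z3 φ).relIndex E ≤ Nat.card F := by
      rw [← hEQ2, Subgroup.inf_relIndex_left, ← index_Q2 (φ := φ)]
      exact Nat.le_of_dvd (by rw [index_Q2]; exact Nat.card_pos) (Subgroup.relIndex_dvd_index_of_normal _ _)
    rw [e1, ← Subgroup.relIndex_mul_relIndex _ _ _ Z2_le_Z3 hZ, e2, sq] at hb
    have hKF : Nat.card K ≤ Nat.card F :=
      (Nat.le_of_mul_le_mul_left hb Nat.card_pos).trans e3
    exact absurd hKF (not_le.2 (card_F_lt φ))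

end Cfsg.Agent.H667.TE
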